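import Groth.Agent.EtMil7.Presented
import Groth.Agent.TorBridge.KerNat

/-!
# Injectivity of the unit of glueing along a Milnor square, via kernels of a flat presentation
-/

universe u

open TensorProduct

namespace Groth.Agent.GlueUnit7

variable {B' B A' A : Type u} [CommRing B'] [CommRing B] [CommRing A'] [CommRing A]
  [Algebra B' B] [Algebra B' A'] [Algebra B A] [Algebra A' A] [Algebra B' A]
  [IsScalarTower B' B A] [IsScalarTower B' A' A]

variable (B' B A) in
/-- The map `B → A` as a linear map. -/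
noncomputable abbrev gl : B →ₗ[B'] A := (IsScalarTower.toAlgHom B' B A).toLinearMap

theorem exists_of_lTensor_eq (hsq : EtMil.IsFibreSquare B' B A' A) (M : Type u) [AddCommGroup M] [Module B' M]
    (x : M ⊗[B'] B) (y : M ⊗[B'] A') (h : (gl B' B A).lTensor M x = (gl B' A' A).lTensor M y) :
    ∃ m : M, m ⊗ₜ[B'] (1 : B) = x ∧ m ⊗ₜ[B'] (1 : A') = y := by
  obtain ⟨m, h₁, h₂⟩ := Groth.Agent.EtMil7.exists_of_rTensor_eq (Groth.Agent.EtMil7.isWeakSquare hsq) M
    (TensorProduct.comm B' M B x) (TensorProduct.comm B' M A' y) (by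
      have hc : ∀ (T : Type u) [AddCommGroup T] [Module B' T] (g : T →ₗ[B'] A) (t : M ⊗[B'] T),
          g.rTensor M (TensorProduct.comm B' M T t) = TensorProduct.comm B' M A (g.lTensor M t) := by
        intro T _ _ g t
        induction t with
        | zero => simp
        | tmul m t => simp
        | add a b ha hb => simp [ha, hb]
      exact (hc B _ x).trans ((congrArg _ h).trans (hc A' _ y).symm))
  refine ⟨m, (TensorProduct.comm B' M B).injective ?_, (TensorProduct.comm B' M A').injective ?_⟩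
  · rw [TensorProduct.comm_tmul]; exact h₁
  · rw [TensorProduct.comm_tmul]; exact h₂

theorem eq_of_tmul_eq (hsq : EtMil.IsFibreSquare B' B A' A) {F : Type u} [AddCommGroup F] [Module B' F]
    [Module.Flat B' F] {f f' : F} (h₁ : f ⊗ₜ[B'] (1 : B) = f' ⊗ₜ 1) (h₂ : f ⊗ₜ[B'] (1 : A') = f' ⊗ₜ 1) :
    f = f' := by
  let d : B' →ₗ[B'] B × A' := (Algebra.linearMap B' B).prod (Algebra.linearMap B' A')
  have hd : Function.Injective d := fun a b hab => by
    obtain ⟨c, -, hu⟩ := hsq.2 (algebraMap B' B a) (algebraMap B' A' a)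
      (by rw [← IsScalarTower.algebraMap_apply, ← IsScalarTower.algebraMap_apply])
    exact (hu a ⟨rfl, rfl⟩).trans (hu b ⟨(congrArg Prod.fst hab).symm, (congrArg Prod.snd hab).symm⟩).symm
  have hinj := Module.Flat.lTensor_preserves_injective_linearMap (M := F) d hd
  have : f ⊗ₜ[B'] (1 : B') = f' ⊗ₜ 1 := by
    apply hinj
    apply (TensorProduct.prodRight B' B' F B A').injective
    simp [d, h₁, h₂]
  simpa using congrArg (TensorProduct.rid B' F) this

/-- The unit of glueing is injective iff the kernels of the presentation surject. -/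
theorem injective_iff (hsq : EtMil.IsFibreSquare B' B A' A) {K F L : Type u} [AddCommGroup K] [Module B' K]
    [AddCommGroup F] [Module B' F] [Module.Flat B' F] [AddCommGroup L] [Module B' L]
    (ι : K →ₗ[B'] F) (q : F →ₗ[B'] L) (hex : Function.Exact ι q) (hq : Function.Surjective q) :
    (∀ l : L, ((1 : B) ⊗ₜ[B'] l : B ⊗[B'] L) = 0 → ((1 : A') ⊗ₜ[B'] l : A' ⊗[B'] L) = 0 → l = 0) ↔
      ∀ z : K ⊗[B'] A, ι.rTensor A z = 0 → ∃ (x : K ⊗[B'] B) (y : K ⊗[B'] A'),
        ι.rTensor B x = 0 ∧ ι.rTensor A' y = 0 ∧ (gl B' B A).lTensor K x + (gl B' A' A).lTensor K y = z := by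
  have hcomm : ∀ (T : Type u) [AddCommGroup T] [Module B' T] (g : T →ₗ[B'] A) (t : K ⊗[B'] T),
      ι.rTensor A (g.lTensor K t) = g.lTensor F (ι.rTensor T t) := fun T _ _ g t => by
    rw [← LinearMap.comp_apply, LinearMap.rTensor_comp_lTensor, ← LinearMap.lTensor_comp_rTensor,
      LinearMap.comp_apply]
  have hgA : Function.Surjective ((gl B' A' A).lTensor K) := LinearMap.lTensor_surjective K hsq.1
  constructor
  · intro hinj z hz
    obtain ⟨y, rfl⟩ := hgA z
    obtain ⟨f, hf₁, hf₂⟩ := exists_of_lTensor_eq hsq F 0 (ι.rTensor A' y) (by rw [← hcomm, hz, map_zero])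
    have hqf : q f = 0 := hinj _
      ((TensorProduct.comm B' B L).injective (by
        rw [map_zero, TensorProduct.comm_tmul, ← LinearMap.rTensor_tmul B q 1 f, hf₁, map_zero]))
      ((TensorProduct.comm B' A' L).injective (by
        rw [map_zero, TensorProduct.comm_tmul, ← LinearMap.rTensor_tmul A' q 1 f, hf₂, ← LinearMap.comp_apply,
          ← LinearMap.rTensor_comp, hex.linearMap_comp_eq_zero, LinearMap.rTensor_zero, LinearMap.zero_apply]))
    obtain ⟨k, rfl⟩ := (hex f).1 hqf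
    refine ⟨k ⊗ₜ 1, y - k ⊗ₜ 1, by simpa using hf₁, ?_, ?_⟩
    · rw [map_sub, LinearMap.rTensor_tmul, hf₂, sub_self]
    · rw [map_sub]; simp [gl]
  · intro hsurj l hl₁ hl₂
    obtain ⟨f, rfl⟩ := hq l
    have hlift : ∀ (T : Type u) [AddCommGroup T] [Module B' T] (t : T), (t ⊗ₜ[B'] q f : T ⊗[B'] L) = 0 →
        ∃ x : K ⊗[B'] T, ι.rTensor T x = f ⊗ₜ t := fun T _ _ t ht =>
      (rTensor_exact T hex hq _).1 (by
        rw [LinearMap.rTensor_tmul]
        simpa using congrArg (TensorProduct.comm B' T L) ht)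
    obtain ⟨x, hx⟩ := hlift B 1 hl₁
    obtain ⟨y, hy⟩ := hlift A' 1 hl₂
    obtain ⟨x', y', hx', hy', hz⟩ := hsurj ((gl B' B A).lTensor K x - (gl B' A' A).lTensor K y) (by
      rw [map_sub, hcomm, hcomm, hx, hy]; simp [gl])
    obtain ⟨k, hk₁, hk₂⟩ := exists_of_lTensor_eq hsq K (x - x') (y + y') (by
      rw [map_sub, map_add]; linear_combination (norm := abel) -hz)
    have hf : ι k = f := eq_of_tmul_eq hsq
      (by rw [← LinearMap.rTensor_tmul B ι 1 k, hk₁, map_sub, hx', sub_zero, hx])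
      (by rw [← LinearMap.rTensor_tmul A' ι 1 k, hk₂, map_add, hy', add_zero, hy])
    rw [← hf]; exact hex.apply_apply_eq_zero k

open CategoryTheory Limits in
theorem exists_desc_eq {X Y Z : ModuleCat.{u} B'} (f : X ⟶ Z) (g : Y ⟶ Z) (a : X) (b : Y) :
    ∃ v : (X ⊞ Y : ModuleCat.{u} B'), (biprod.desc f g).hom v = f.hom a + g.hom b :=
  ⟨(biprod.inl : X ⟶ X ⊞ Y).hom a + (biprod.inr : Y ⟶ X ⊞ Y).hom b, by
    rw [map_add, ← LinearMap.comp_apply, ← LinearMap.comp_apply, ← ModuleCat.hom_comp, ← ModuleCat.hom_comp,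
      biprod.inl_desc, biprod.inr_desc]⟩

open CategoryTheory Limits in
theorem exists_eq_desc {X Y Z : ModuleCat.{u} B'} (f : X ⟶ Z) (g : Y ⟶ Z) (v : (X ⊞ Y : ModuleCat.{u} B')) :
    ∃ (a : X) (b : Y), f.hom a + g.hom b = (biprod.desc f g).hom v :=
  ⟨(biprod.fst : X ⊞ Y ⟶ X).hom v, (biprod.snd : X ⊞ Y ⟶ Y).hom v, by rw [biprod.desc_eq]; rfl⟩

open CategoryTheory Limits in
theorem surjective_desc_iff {X Y Z : ModuleCat.{u} B'} (f : X ⟶ Z) (g : Y ⟶ Z)
    {P P' Q R R' W : Type u} [AddCommGroup P] [Module B' P] [AddCommGroup P'] [Module B' P'] [AddCommGroup Q]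
    [Module B' Q] [AddCommGroup R] [Module B' R] [AddCommGroup R'] [Module B' R'] [AddCommGroup W] [Module B' W]
    (tX : X →ₗ[B'] P) (tY : Y →ₗ[B'] P') (tZ : Z →ₗ[B'] Q) (f' : P →ₗ[B'] Q) (g' : P' →ₗ[B'] Q)
    (iX : P →ₗ[B'] R) (iY : P' →ₗ[B'] R') (iZ : Q →ₗ[B'] W)
    (hZ : Function.Injective tZ) (eX : Function.Exact tX iX) (eY : Function.Exact tY iY)
    (eZ : Function.Exact tZ iZ) (hf : ∀ w, tZ (f.hom w) = f' (tX w)) (hg : ∀ w, tZ (g.hom w) = g' (tY w)) :
    Epi (biprod.desc f g) ↔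
      ∀ z, iZ z = 0 → ∃ x y, iX x = 0 ∧ iY y = 0 ∧ f' x + g' y = z := by
  rw [ModuleCat.epi_iff_surjective]
  constructor
  · intro h z hz
    obtain ⟨w, rfl⟩ := (eZ z).1 hz
    obtain ⟨v, rfl⟩ := h w
    obtain ⟨a, b, hab⟩ := exists_eq_desc f g v
    exact ⟨tX a, tY b, (eX _).2 ⟨a, rfl⟩, (eY _).2 ⟨b, rfl⟩, by rw [← hf, ← hg, ← map_add, hab]⟩
  · intro h w
    obtain ⟨x, y, hx, hy, hxy⟩ := h (tZ w) ((eZ _).2 ⟨w, rfl⟩)
    obtain ⟨a, rfl⟩ := (eX x).1 hx
    obtain ⟨b, rfl⟩ := (eY y).1 hy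
    obtain ⟨v, hv⟩ := exists_desc_eq f g a b
    exact ⟨v, hZ (by rw [hv, map_add, hf, hg, hxy])⟩

open CategoryTheory Limits MonoidalCategory in
/-- Injectivity of the unit in terms of `Tor₁`. -/
theorem injective_iff_epi (hsq : EtMil.IsFibreSquare B' B A' A) (L : Type u) [AddCommGroup L] [Module B' L] :
    (∀ l : L, ((1 : B) ⊗ₜ[B'] l : B ⊗[B'] L) = 0 → ((1 : A') ⊗ₜ[B'] l : A' ⊗[B'] L) = 0 → l = 0) ↔
    Epi (biprod.desc
      (((Tor (ModuleCat.{u} B') 1).obj (ModuleCat.of B' L)).map (ModuleCat.ofHom (gl B' B A)))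
      (((Tor (ModuleCat.{u} B') 1).obj (ModuleCat.of B' L)).map (ModuleCat.ofHom (gl B' A' A)))) := by
  let q : (L →₀ B') →ₗ[B'] L := Finsupp.linearCombination B' id
  have hq : Function.Surjective q := fun l => ⟨Finsupp.single l 1, by simp [q]⟩
  let S : ShortComplex (ModuleCat.{u} B') :=
    ShortComplex.mk (X₁ := ModuleCat.of B' (LinearMap.ker q)) (X₂ := ModuleCat.of B' (L →₀ B'))
      (X₃ := ModuleCat.of B' L) (ModuleCat.ofHom (LinearMap.ker q).subtype) (ModuleCat.ofHom q)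
      (by ext x; exact LinearMap.mem_ker.1 x.2)
  have hex : Function.Exact (LinearMap.ker q).subtype q := LinearMap.exact_subtype_ker_map q
  have hS : S.ShortExact :=
    { exact := (ShortComplex.ShortExact.moduleCat_exact_iff_function_exact _).2 hex
      mono_f := (ModuleCat.mono_iff_injective _).2 (LinearMap.ker q).injective_subtype
      epi_g := (ModuleCat.epi_iff_surjective _).2 hq }
  haveI : Module.Flat B' S.X₂ := inferInstanceAs (Module.Flat B' (L →₀ B'))
  rw [injective_iff (K := S.X₁) (F := S.X₂) (L := S.X₃) hsq S.f.hom S.g.hom hex hq]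
  exact (surjective_desc_iff
    (((Tor (ModuleCat.{u} B') 1).obj (ModuleCat.of B' L)).map (ModuleCat.ofHom (gl B' B A)))
    (((Tor (ModuleCat.{u} B') 1).obj (ModuleCat.of B' L)).map (ModuleCat.ofHom (gl B' A' A)))
    (TorBridge.KerNat.θ hS _).hom (TorBridge.KerNat.θ hS _).hom (TorBridge.KerNat.θ hS _).hom
    ((gl B' B A).lTensor S.X₁) ((gl B' A' A).lTensor S.X₁)
    (S.f.hom.rTensor B) (S.f.hom.rTensor A') (S.f.hom.rTensor A)
    (TorBridge.KerNat.θ_injective hS _) (TorBridge.KerNat.θ_range hS _) (TorBridge.KerNat.θ_range hS _)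
    (TorBridge.KerNat.θ_range hS _)
    (fun w => congrArg (fun k => k.hom w) (TorBridge.KerNat.θ_natural hS (ModuleCat.ofHom (gl B' B A))))
    (fun w => congrArg (fun k => k.hom w) (TorBridge.KerNat.θ_natural hS (ModuleCat.ofHom (gl B' A' A))))).symm

end Groth.Agent.GlueUnit7
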